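import Groth.Agent.TMul.Frame
import Groth.Agent.ModDesc.BaseChange
import Groth.Agent.ProjMor.PullSec
import Groth.Agent.GrT.GammaIso

/-!
The projection formula `D ⊗ W = f_* f^* W` for a finite flat morphism with `D = f_* O`.
-/

set_option autoImplicit false
set_option backward.isDefEq.respectTransparency false
set_option backward.isDefEq.respectTransparency.types false
set_option linter.style.haveILetI false

universe u

open CategoryTheory CategoryTheory.Limits AlgebraicGeometry TopologicalSpace Opposite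
open Groth.Agent.QC (res resO res_res res_smul app_res)
open scoped TensorProduct

noncomputable section

namespace Groth.Agent.GenPush

variable {X Y : Scheme.{u}} (f : X ⟶ Y)

/-- `f_* O` -/
abbrev pO : Y.Modules := (Scheme.Modules.pushforward f).obj (Coh.structureModule X)

variable (W : Y.Modules)

/-- The bilinear maps `(b, w) ↦ b • f^*w`. -/
def thetaBil (U : Y.Opens) : Γ(pO f, U) →ₗ[Γ(Y, U)] Γ(W, U) →ₗ[Γ(Y, U)]
    Γ((Scheme.Modules.pushforward f).obj ((Scheme.Modules.pullback f).obj W), U) :=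
  LinearMap.mk₂ Γ(Y, U)
    (fun (b : Γ(pO f, U)) w =>
      ((show Γ(X, f ⁻¹ᵁ U) from b) • ProjMor.eta f W U w :
        Γ((Scheme.Modules.pullback f).obj W, f ⁻¹ᵁ U)))
    (fun a b w => add_smul (M := Γ((Scheme.Modules.pullback f).obj W, f ⁻¹ᵁ U)) (show Γ(X, f ⁻¹ᵁ U) from a) (show Γ(X, f ⁻¹ᵁ U) from b) _)
    (fun r a w => mul_smul (β := Γ((Scheme.Modules.pullback f).obj W, f ⁻¹ᵁ U)) (f.app U r) (show Γ(X, f ⁻¹ᵁ U) from a) _)
    (fun a w w' => by rw [map_add, smul_add]; try rfl)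
    (fun r a w => by rw [ProjMor.eta_smul]; exact smul_comm _ _ _)

lemma thetaBil_res {V U : Y.Opens} (h : V ≤ U) (b : Γ(pO f, U)) (w : Γ(W, U)) :
    res _ h (thetaBil f W U b w) = thetaBil f W V (res _ h b) (res W h w) := by
  change res ((Scheme.Modules.pullback f).obj W) (f.preimage_mono h)
    ((show Γ(X, f ⁻¹ᵁ U) from b) • ProjMor.eta f W U w) = _
  rw [res_smul, ProjMor.eta_res]
  rfl

/-- `f_* O ⊗ W ⟶ f_* f^* W`. -/
def theta : CohB1.tensorMod (pO f) W ⟶ (Scheme.Modules.pushforward f).obj ((Scheme.Modules.pullback f).obj W) :=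
  TMul.lift (thetaBil f W) fun h b w => thetaBil_res f W h b w

lemma theta_tm {U : Y.Opens} (b : Γ(pO f, U)) (w : Γ(W, U)) :
    (theta f W).app U (TMul.tm b w) = thetaBil f W U b w :=
  TMul.lift_tm (thetaBil f W) (fun h b w => thetaBil_res f W h b w) b w

variable [IsAffineHom f]

theorem bijective_theta (hW : Coh.IsQCoh W) {U : Y.Opens} {n : ℕ} {e : Fin n → Γ(pO f, U)}
    (he : TMul.IsFrame e) {V : Y.Opens} (hV : IsAffineOpen V) (hVU : V ≤ U) :
    Function.Bijective ((theta f W).app V) := by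
  classical
  have h1 := he.tm_bijective (M := W) V hVU
  refine (Function.Bijective.of_comp_iff _ h1).mp ?_
  letI : Algebra Γ(Y, V) Γ(X, f ⁻¹ᵁ V) := (f.appLE V (f ⁻¹ᵁ V) le_rfl).hom.toAlgebra
  haveI : Coh.IsQCoh W := hW
  obtain ⟨Φ, hΦ⟩ := ModDesc.exists_bijective_liftBaseChange f W hV (hV.preimage f) le_rfl
  have hs : ∀ (r : Γ(Y, V)) (b : Γ(X, f ⁻¹ᵁ V)), r • b = f.app V r * b := fun r b => by
    rw [Algebra.smul_def, RingHom.algebraMap_toAlgebra, Scheme.Hom.appLE_eq_app]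
  let c : (Fin n → Γ(Y, V)) ≃ₗ[Γ(Y, V)] Γ(X, f ⁻¹ᵁ V) :=
    { (he.equiv hVU).toAddEquiv with
      map_smul' := fun r a => ((he.equiv hVU).map_smul r a).trans (hs r _).symm }
  let Ψ : (Fin n → Γ(W, V)) ≃ₗ[Γ(Y, V)] Γ(X, f ⁻¹ᵁ V) ⊗[Γ(Y, V)] Γ(W, V) :=
    (TensorProduct.piScalarRight Γ(Y, V) Γ(Y, V) Γ(W, V) (Fin n)).symm ≪≫ₗ
      TensorProduct.comm Γ(Y, V) Γ(W, V) (Fin n → Γ(Y, V)) ≪≫ₗ LinearEquiv.rTensor Γ(W, V) c
  have hc : ∀ i, c (Pi.single i 1) = (show Γ(X, f ⁻¹ᵁ V) from res (pO f) hVU (e i)) := fun i => by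
    change ∑ j, (Pi.single i (1 : Γ(Y, V)) : Fin n → _) j • res (pO f) hVU (e j) = _
    rw [Finset.sum_eq_single i (fun j _ hj => by rw [Pi.single_eq_of_ne hj, zero_smul]) (by simp), Pi.single_eq_same, one_smul]
  have hΨ : ∀ m : Fin n → Γ(W, V),
      Ψ m = ∑ i, (show Γ(X, f ⁻¹ᵁ V) from res (pO f) hVU (e i)) ⊗ₜ[Γ(Y, V)] m i := fun m => by
    conv_lhs => rw [← Finset.univ_sum_single m, map_sum]
    refine Finset.sum_congr rfl fun i _ => ?_
    simp only [Ψ, LinearEquiv.trans_apply, TensorProduct.piScalarRight_symm_single, TensorProduct.comm_tmul,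
      LinearEquiv.rTensor_tmul, hc]
  refine Eq.mpr (congrArg _ ?_) (Φ.bijective.comp Ψ.bijective)
  funext m
  simp only [Function.comp_apply]
  rw [hΨ, map_sum, map_sum]
  refine Finset.sum_congr rfl fun i _ => ?_
  rw [theta_tm]
  conv_rhs => rw [← mul_one (show Γ(X, f ⁻¹ᵁ V) from res (pO f) hVU (e i)), ← smul_eq_mul, ← TensorProduct.smul_tmul',
    Φ.map_smul, hΦ]
  rw [ModDesc.pullSectLE_apply, Groth.Agent.QC.res_self]
  rfl

theorem isIso_theta (hW : Coh.IsQCoh W) (hD : FlatMod.IsFinLocFree (pO f)) : IsIso (theta f W) := by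
  have key : ∀ y : Y, ∀ V : Y.Opens, y ∈ V → ∃ (V' : Y.Opens) (_ : V' ≤ V),
      y ∈ V' ∧ Function.Bijective ((theta f W).app V') := fun y V hy => by
    obtain ⟨U, n, e, hyU, he⟩ := TMul.exists_isFrame hD y
    obtain ⟨V', hV', hyV', hle⟩ := exists_isAffineOpen_mem_and_subset (show y ∈ V ⊓ U from ⟨hy, hyU⟩)
    exact ⟨V', fun z hz => (hle hz).1, hyV', bijective_theta f W hW he hV' fun z hz => (hle hz).2⟩
  refine GrT.isIso_of_locally _ (fun V => (injective_iff_map_eq_zero _).mpr fun t ht =>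
    Groth.Agent.QC.section_eq_of_locally fun y hy => ?_) fun V t y hy => ?_
  · obtain ⟨V', hle, hyV', hb⟩ := key y V hy
    exact ⟨V', hle, hyV', hb.1 (by rw [← app_res, ht, map_zero, map_zero, map_zero])⟩
  · obtain ⟨V', hle, hyV', hb⟩ := key y V hy
    exact ⟨V', hle, hyV', hb.2 _⟩

end Groth.Agent.GenPush
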