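import Groth.Agent.GenPush.Proj
import Groth.Agent.ExtShX.DualTensor
import Groth.Agent.ExtShX.HomTilde
import Groth.Agent.DirImgLib.Colim
import Groth.Agent.InvGen.Basic
import Groth.Agent.QC.Closure
import Groth.Agent.QC.Pullback
import Groth.Agent.FEtRank.PushRank

/-!
The direct image of a generating family under a finite flat surjective morphism is generating.
-/

set_option autoImplicit false
set_option backward.isDefEq.respectTransparency false
set_option backward.isDefEq.respectTransparency.types false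
set_option linter.style.haveILetI false

universe u

open CategoryTheory CategoryTheory.Limits AlgebraicGeometry TopologicalSpace Opposite
open Groth.Agent.QC (res resO res_res res_smul app_res)

noncomputable section

namespace Groth.Agent.GenPush

variable {X Y : Scheme.{u}} (f : X ⟶ Y)

theorem isFinLocFree_pO [IsFinite f] [Flat f] [LocallyOfFinitePresentation f] : FlatMod.IsFinLocFree (pO f) := by
  haveI : (Coh.structureModule X).IsQuasicoherent := Groth.Agent.QC.isQCoh_unit X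
  refine Groth.Agent.LocFree.isFinLocFree_of_affine_projective (Groth.Agent.QC.isQCoh_pushforward f) fun y => ?_
  obtain ⟨D, hD, hyD, -⟩ := exists_isAffineOpen_mem_and_subset (x := y) (U := (⊤ : Y.Opens)) trivial
  have hD' : IsAffineOpen (f ⁻¹ᵁ D) := hD.preimage f
  have hfin : (f.app D).hom.Finite := f.finite_app D hD
  have hflat : (f.app D).hom.Flat := by
    rw [← Scheme.Hom.appLE_eq_app]
    exact HasRingHomProperty.appLE @Flat f inferInstance ⟨D, hD⟩ ⟨_, hD'⟩ le_rfl
  have hfp : (f.app D).hom.FinitePresentation := by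
    rw [← Scheme.Hom.appLE_eq_app]
    exact HasRingHomProperty.appLE @LocallyOfFinitePresentation f inferInstance ⟨D, hD⟩ ⟨_, hD'⟩ le_rfl
  letI := (f.app D).hom.toAlgebra
  haveI : Module.Finite Γ(Y, D) Γ(X, f ⁻¹ᵁ D) := hfin
  haveI : Algebra.FinitePresentation Γ(Y, D) Γ(X, f ⁻¹ᵁ D) := hfp
  haveI : Module.Flat Γ(Y, D) Γ(X, f ⁻¹ᵁ D) := hflat
  let l : Γ(X, f ⁻¹ᵁ D) ≃ₗ[Γ(Y, D)] Γ(pO f, D) :=
    { toFun := fun x => x
      invFun := fun x => x
      map_add' := fun _ _ => rfl
      map_smul' := fun _ _ => rfl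
      left_inv := fun _ => rfl
      right_inv := fun _ => rfl }
  haveI := Module.FinitePresentation.of_finite_of_finitePresentation Γ(Y, D) Γ(X, f ⁻¹ᵁ D)
  exact ⟨D, hD, hyD, Module.FinitePresentation.of_equiv l, Module.Flat.of_linearEquiv l.symm⟩

theorem exists_frame_pos [Surjective f] (hD : FlatMod.IsFinLocFree (pO f)) (y : Y) :
    ∃ (U : Y.Opens) (n : ℕ) (e : Fin (n + 1) → Γ(pO f, U)), y ∈ U ∧ TMul.IsFrame e := by
  obtain ⟨U, n, e, hyU, he⟩ := TMul.exists_isFrame hD y
  rcases n with _ | n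
  · exfalso
    obtain ⟨x, rfl⟩ := f.surjective y
    obtain ⟨c, hc⟩ := he.comb_surjective le_rfl (show Γ(pO f, U) from (1 : Γ(X, f ⁻¹ᵁ U)))
    have h1 : (1 : Γ(X, f ⁻¹ᵁ U)) = 0 := hc.symm.trans (by simp)
    haveI : Nonempty (f ⁻¹ᵁ U : X.Opens) := ⟨⟨x, hyU⟩⟩
    exact one_ne_zero h1
  · exact ⟨U, n, e, hyU, he⟩

theorem epi_evTensor {D : Y.Modules}
    (h : ∀ y : Y, ∃ (U : Y.Opens) (n : ℕ) (e : Fin (n + 1) → Γ(D, U)), y ∈ U ∧ TMul.IsFrame e) (N : Y.Modules) :
    Epi (ExtShX.evTensor D N) := by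
  refine InvGen.epi_of_locally _ fun V t y hy => ?_
  obtain ⟨U, n, e, hyU, he⟩ := h y
  have hle : V ⊓ U ≤ U := inf_le_right
  let a := res D hle (e 0)
  let d := res (RefHull.dual D) hle (ResDesc.coord he 0)
  refine ⟨V ⊓ U, inf_le_left, ⟨hy, hyU⟩, TMul.tm a (TMul.tm d (res N inf_le_left t)), ?_⟩
  have h1 : (ResDesc.evDual D).app (V ⊓ U) (TMul.tm a d) = (1 : Γ(Y, V ⊓ U)) := by
    refine RefStalk.germ_ext fun z hz => ?_
    rw [W7Hull.uncur_tm]
    change (ResDesc.coord he 0).1 ⟨z, hz.2⟩ (Groth.Agent.WeakAssLib.mgerm D hz a) = _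
    rw [Groth.Agent.WeakAssLib.mgerm_res, ResDesc.coord_germ, if_pos rfl]
    refine Eq.trans ?_ (ResDesc.germ_smul_one hz (1 : Γ(Y, V ⊓ U)))
    rw [map_one, one_smul]
  rw [ExtShX.evTensor_tm, h1]
  exact one_smul Γ(Y, V ⊓ U) _

theorem epi_pushforward [IsAffineHom f] {M N : X.Modules} (hM : Coh.IsQCoh M) (hN : Coh.IsQCoh N) (p : M ⟶ N)
    [Epi p] : Epi ((Scheme.Modules.pushforward f).map p) := by
  refine InvGen.epi_of_locally _ fun U t x hx => ?_
  obtain ⟨V, hV, hxV, hVU⟩ := exists_isAffineOpen_mem_and_subset (show x ∈ U from hx)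
  obtain ⟨a, ha⟩ := Groth.Agent.QC.app_surjective_of_epi (hV.preimage f) hM hN p
    (res N (f.preimage_mono hVU) t)
  exact ⟨V, hVU, hxV, a, ha⟩

theorem main [IsFinite f] [Flat f] [LocallyOfFinitePresentation f] [Surjective f]
    {ι : Type u} (E : ι → X.Modules) (hE : ∀ i, Coh.IsQCoh (E i))
    (hgen : ∀ M : X.Modules, Coh.IsQCoh M → ∃ (κ : Type u) (j : κ → ι) (π : (∐ fun k : κ => E (j k)) ⟶ M), Epi π)
    (N : Y.Modules) (hN : Coh.IsQCoh N) :
    ∃ (κ : Type u) (j : κ → ι) (π : (∐ fun k : κ => (Scheme.Modules.pushforward f).obj (E (j k))) ⟶ N), Epi π := by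
  have hD := isFinLocFree_pO f
  let W := CohB1.tensorMod (RefHull.dual (pO f)) N
  have hW : Coh.IsQCoh W :=
    DQCoh.isQCoh_tensor (LocFree.isQCoh_of_isFinLocFree (ResDesc.isFinLocFree_dual hD)) hN
  haveI := isIso_theta f W hW hD
  have hM : Coh.IsQCoh ((Scheme.Modules.pullback f).obj W) := Groth.Agent.QC.isQCoh_pullback f hW
  obtain ⟨κ, j, π, hπ⟩ := hgen _ hM
  let P := Scheme.Modules.pushforward f
  haveI := epi_evTensor (exists_frame_pos f hD) N
  haveI : Epi (P.map π) := epi_pushforward f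
    (Groth.Agent.QC.isQCoh_colimit (Discrete.functor fun k : κ => E (j k)) fun k => hE _) hM π
  haveI : PreservesColimit (Discrete.functor fun k : κ => E (j k)) P :=
    preservesColimit_of_preserves_colimit_cocone (colimit.isColimit _)
      (DirImgLib.isColimitPushforward f _ (fun k => hE _) (colimit.isColimit _))
  exact ⟨κ, j, (PreservesCoproduct.iso P (fun k : κ => E (j k))).inv ≫ P.map π ≫
    (inv (theta f W) : _ ⟶ CohB1.tensorMod (pO f) W) ≫ ExtShX.evTensor (pO f) N, inferInstance⟩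

end Groth.Agent.GenPush
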